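import Cfsg.Agent.Lib.Helper5.O9.Defs
import Cfsg.Agent.Lib.Helper80.AS.ODDSA

/-! Sub-ladder O9P (S5835), rung AUT2. -/

set_option autoImplicit false

namespace Cfsg.Agent.Lib.Helper5.O9

open Cfsg Cfsg.Geo QuadraticMap
open Cfsg.Agent.Lib.Helper11.AschO (gram perp)
open Cfsg.Agent.Lib.Helper80.AS (tmat IsLeftFactor GramTensor)
open scoped MatrixGroups Matrix Kronecker

variable {ι : Type} [Fintype ι] [DecidableEq ι] {F : Type*} [Field F]

/-- AUT2. -/
theorem centralizes_of_sq [Fintype F] (K : Subalgebra F (Matrix ι ι F)) (r : ℕ) (hr : Odd r) (hK : IsFieldSubalgebra r K)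
    (g : GL ι F) (hg : g ∈ subalgebraNormalizer K) (hg2 : g * g = 1) :
    ∀ k ∈ K, (g : Matrix ι ι F) * k = k * (g : Matrix ι ι F) := by
  rcases isEmpty_or_nonempty ι with hι | hι
  · intro k _
    exact Subsingleton.elim _ _
  have hfld : IsField K :=
    { exists_pair_ne := ⟨0, 1, fun h => by
        have h1 : (0 : Matrix ι ι F) = 1 := congrArg Subtype.val h
        exact zero_ne_one h1⟩
      mul_comm := fun x y => Subtype.ext (hK.comm x.1 x.2 y.1 y.2)
      mul_inv_cancel := fun {x} hx => by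
        obtain ⟨y, hy, hxy⟩ := hK.inv x.1 x.2 (fun h => hx (Subtype.ext h))
        exact ⟨⟨y, hy⟩, Subtype.ext hxy⟩ }
  have hgi : ((g⁻¹ : GL ι F) : Matrix ι ι F) * (g : Matrix ι ι F) = 1 := by
    rw [← Units.val_mul, inv_mul_cancel, Units.val_one]
  have hgi' : (g : Matrix ι ι F) * ((g⁻¹ : GL ι F) : Matrix ι ι F) = 1 := by
    rw [← Units.val_mul, mul_inv_cancel, Units.val_one]
  have hgg : (g : Matrix ι ι F) * (g : Matrix ι ι F) = 1 := by
    rw [← Units.val_mul, hg2, Units.val_one]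
  have hinvg : ((g⁻¹ : GL ι F) : Matrix ι ι F) = (g : Matrix ι ι F) := by
    have : g⁻¹ = g := inv_eq_of_mul_eq_one_left hg2
    rw [this]
  let a : Matrix ι ι F → Matrix ι ι F := fun k => (g : Matrix ι ι F) * k * ((g⁻¹ : GL ι F) : Matrix ι ι F)
  have ha1 : ∀ k ∈ K, a k ∈ K := fun k hk => (hg k).1 hk
  have hsc : ∀ c : F, a (algebraMap F (Matrix ι ι F) c) = algebraMap F (Matrix ι ι F) c := by
    intro c
    simp only [a]
    rw [Algebra.algebraMap_eq_smul_one, mul_smul_comm, mul_one, smul_mul_assoc, hgi']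
  let α : K →ₐ[F] K :=
    { toFun := fun x => ⟨a x, ha1 x x.2⟩
      map_one' := by
        apply Subtype.ext
        show (g : Matrix ι ι F) * 1 * ((g⁻¹ : GL ι F) : Matrix ι ι F) = 1
        rw [mul_one, hgi']
      map_mul' := fun x y => by
        apply Subtype.ext
        show (g : Matrix ι ι F) * ((x : Matrix ι ι F) * (y : Matrix ι ι F)) * ((g⁻¹ : GL ι F) : Matrix ι ι F) =
          ((g : Matrix ι ι F) * (x : Matrix ι ι F) * ((g⁻¹ : GL ι F) : Matrix ι ι F)) *
            ((g : Matrix ι ι F) * (y : Matrix ι ι F) * ((g⁻¹ : GL ι F) : Matrix ι ι F))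
        calc (g : Matrix ι ι F) * ((x : Matrix ι ι F) * (y : Matrix ι ι F)) * ((g⁻¹ : GL ι F) : Matrix ι ι F)
            = (g : Matrix ι ι F) * (x : Matrix ι ι F) * 1 * (y : Matrix ι ι F) *
                ((g⁻¹ : GL ι F) : Matrix ι ι F) := by rw [mul_one]; simp only [mul_assoc]
          _ = _ := by rw [← hgi]; simp only [mul_assoc]
      map_zero' := by
        apply Subtype.ext
        show (g : Matrix ι ι F) * 0 * ((g⁻¹ : GL ι F) : Matrix ι ι F) = 0
        rw [mul_zero, zero_mul]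
      map_add' := fun x y => by
        apply Subtype.ext
        show (g : Matrix ι ι F) * ((x : Matrix ι ι F) + (y : Matrix ι ι F)) * ((g⁻¹ : GL ι F) : Matrix ι ι F) =
          ((g : Matrix ι ι F) * (x : Matrix ι ι F) * ((g⁻¹ : GL ι F) : Matrix ι ι F)) +
            ((g : Matrix ι ι F) * (y : Matrix ι ι F) * ((g⁻¹ : GL ι F) : Matrix ι ι F))
        rw [mul_add, add_mul]
      commutes' := fun c => Subtype.ext (hsc c) }
  have hinv : ∀ x : K, α (α x) = x := by
    intro x
    apply Subtype.ext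
    show (g : Matrix ι ι F) * ((g : Matrix ι ι F) * (x : Matrix ι ι F) * ((g⁻¹ : GL ι F) : Matrix ι ι F)) *
      ((g⁻¹ : GL ι F) : Matrix ι ι F) = x
    rw [hinvg]
    calc (g : Matrix ι ι F) * ((g : Matrix ι ι F) * (x : Matrix ι ι F) * (g : Matrix ι ι F)) * (g : Matrix ι ι F)
        = ((g : Matrix ι ι F) * (g : Matrix ι ι F)) * (x : Matrix ι ι F) *
            ((g : Matrix ι ι F) * (g : Matrix ι ι F)) := by simp only [mul_assoc]
      _ = x := by rw [hgg, one_mul, mul_one]
  have hfin : Finite K := inferInstance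
  have key := @Cfsg.Agent.Lib.Helper80.AS.oddsa_aux F K _ hfld.toField hfin K.algebra α
    hinv (by rw [hK.finrank_eq]; exact hr)
  intro k hk
  have h1 : (g : Matrix ι ι F) * k * ((g⁻¹ : GL ι F) : Matrix ι ι F) = k :=
    congrArg Subtype.val (key ⟨k, hk⟩)
  calc (g : Matrix ι ι F) * k = (g : Matrix ι ι F) * k * (((g⁻¹ : GL ι F) : Matrix ι ι F) * (g : Matrix ι ι F)) := by
        rw [hgi, mul_one]
    _ = ((g : Matrix ι ι F) * k * ((g⁻¹ : GL ι F) : Matrix ι ι F)) * (g : Matrix ι ι F) := by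
        simp only [mul_assoc]
    _ = k * (g : Matrix ι ι F) := by rw [h1]

end Cfsg.Agent.Lib.Helper5.O9
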