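import Cfsg.Agent.Lib.Helper5.O9.Defs
import Cfsg.Agent.Lib.Helper80.AS.TMUL
import Cfsg.Agent.Lib.Helper80.AS.TSIGN
import Cfsg.Agent.Lib.Helper80.AS.UNIQ

/-! Sub-ladder O9P (S5835), rung CHG. -/

set_option autoImplicit false

namespace Cfsg.Agent.Lib.Helper5.O9

open Cfsg Cfsg.Geo QuadraticMap
open Cfsg.Agent.Lib.Helper11.AschO (gram perp)
open Cfsg.Agent.Lib.Helper80.AS (tmat IsLeftFactor GramTensor)
open scoped MatrixGroups Matrix Kronecker

variable {ι : Type} [Fintype ι] [DecidableEq ι] {F : Type*} [Field F]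

theorem chg_mulVec {s k : ℕ} (e : ι ≃ Fin s × Fin k) (X : Matrix (Fin s × Fin k) (Fin s × Fin k) F)
    (x : Fin s × Fin k → F) :
    (Matrix.reindexAlgEquiv F F e.symm X) *ᵥ (x ∘ e) = (X *ᵥ x) ∘ e := by
  funext i
  simp only [Matrix.reindexAlgEquiv_apply, Matrix.reindex_apply, Equiv.symm_symm, Matrix.mulVec, dotProduct,
    Matrix.submatrix_apply, Function.comp_apply]
  exact Fintype.sum_equiv e _ _ (fun _ => rfl)

theorem chg_form {κ : Type} [Fintype κ] (G : Matrix κ κ F) (x y : κ → F) :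
    formOfGram id G x y = x ⬝ᵥ (G *ᵥ y) := by
  rw [Cfsg.Agent.Lib.Helper80.AS.tsign_mulVec]
  rfl

theorem change_right (f : (ι → F) → (ι → F) → F) {s k : ℕ} (B : Subalgebra F (Matrix ι ι F)) (e : ι ≃ Fin s × Fin k) (P : GL ι F)
    (hB : IsLeftFactor B e P) (J₁ : Matrix (Fin s) (Fin s) F) (J₂ : Matrix (Fin k) (Fin k) F) (hJ : GramTensor f e P J₁ J₂)
    (b : GL (Fin k) F) :
    ∃ P' : GL ι F, IsLeftFactor B e P' ∧
      GramTensor f e P' J₁ ((b : Matrix (Fin k) (Fin k) F)ᵀ * J₂ * (b : Matrix (Fin k) (Fin k) F)) := by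
  classical
  set M : Matrix (Fin s × Fin k) (Fin s × Fin k) F :=
    (1 : Matrix (Fin s) (Fin s) F) ⊗ₖ (b : Matrix (Fin k) (Fin k) F) with hM
  set Mi : Matrix (Fin s × Fin k) (Fin s × Fin k) F :=
    (1 : Matrix (Fin s) (Fin s) F) ⊗ₖ ((b⁻¹ : GL (Fin k) F) : Matrix (Fin k) (Fin k) F) with hMi
  have h1 : M * Mi = 1 := by
    rw [hM, hMi, ← Matrix.mul_kronecker_mul, one_mul, Cfsg.Agent.Lib.Helper80.AS.tmul_mul_inv,
      Matrix.one_kronecker_one]
  have h2 : Mi * M = 1 := by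
    rw [hM, hMi, ← Matrix.mul_kronecker_mul, one_mul, Cfsg.Agent.Lib.Helper80.AS.tmul_inv_mul,
      Matrix.one_kronecker_one]
  let R : GL ι F := ⟨Matrix.reindexAlgEquiv F F e.symm M, Matrix.reindexAlgEquiv F F e.symm Mi,
    by rw [← map_mul, h1, map_one], by rw [← map_mul, h2, map_one]⟩
  have hR : (R : Matrix ι ι F) = Matrix.reindexAlgEquiv F F e.symm M := rfl
  have hRi : ((R⁻¹ : GL ι F) : Matrix ι ι F) = Matrix.reindexAlgEquiv F F e.symm Mi := rfl
  have htm : ∀ X, tmat e (P * R) X = tmat e P (M * X * Mi) := by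
    intro X
    unfold Cfsg.Agent.Lib.Helper80.AS.tmat
    rw [mul_inv_rev, Units.val_mul, Units.val_mul, hR, hRi, map_mul, map_mul]
    simp only [mul_assoc]
  refine ⟨P * R, ?_, ?_⟩
  · intro y
    rw [hB y]
    have : ∀ x : Matrix (Fin s) (Fin s) F, tmat e (P * R) (x ⊗ₖ (1 : Matrix (Fin k) (Fin k) F)) =
        tmat e P (x ⊗ₖ (1 : Matrix (Fin k) (Fin k) F)) := by
      intro x
      rw [htm, hM, hMi, ← Matrix.mul_kronecker_mul, ← Matrix.mul_kronecker_mul, one_mul, mul_one, mul_one,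
        Cfsg.Agent.Lib.Helper80.AS.tmul_mul_inv]
    simp only [this]
  · intro x y
    have hv : ∀ z : Fin s × Fin k → F, ((P * R : GL ι F) : Matrix ι ι F) *ᵥ (z ∘ e) =
        (P : Matrix ι ι F) *ᵥ ((M *ᵥ z) ∘ e) := by
      intro z
      rw [Units.val_mul, ← Matrix.mulVec_mulVec, hR, chg_mulVec]
    rw [hv, hv, hJ, chg_form, chg_form, Cfsg.Agent.Lib.Helper80.AS.uniq_dot, hM, ← Matrix.kroneckerMap_transpose,
      ← Matrix.mul_kronecker_mul, ← Matrix.mul_kronecker_mul, Matrix.transpose_one, one_mul, mul_one]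

end Cfsg.Agent.Lib.Helper5.O9
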