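import Mathlib
import Cfsg.Prelude.Def_GeometricClasses
import Cfsg.Agent.Lib.Helper11.AschO.Defs
import Cfsg.Agent.Lib.Helper80.AS.Defs

/-! Sub-ladder O9P (for ASO9 = S5835, Aschbacher's theorem for `Ω_9(q)`): definitions. -/

set_option autoImplicit false

namespace Cfsg.Agent.Lib.Helper5.O9

open Cfsg Cfsg.Geo
open scoped MatrixGroups Matrix

variable {ι : Type} [Fintype ι] [DecidableEq ι] {F : Type*} [Field F]

/-- the pure tensor `a ⊗ b` as a coordinate vector indexed by `Fin 2 → Fin 3`. -/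
def pv (a b : Fin 3 → F) : (Fin 2 → Fin 3) → F := fun x => a (x 0) * b (x 1)

/-- `v` is a pure tensor in the coordinates `(e, P)`. -/
def IsPure (e : ι ≃ (Fin 2 → Fin 3)) (P : GL ι F) (v : ι → F) : Prop :=
  ∃ a b : Fin 3 → F, v = (P : Matrix ι ι F) *ᵥ (pv a b ∘ e)

end Cfsg.Agent.Lib.Helper5.O9
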