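import Cfsg.Agent.Lib.Helper5.O9.Defs
import Cfsg.Agent.Lib.Helper17.FrameThree

/-! Sub-ladder O9P (S5835), rung FRI. -/

set_option autoImplicit false

namespace Cfsg.Agent.Lib.Helper5.O9

open Cfsg Cfsg.Geo QuadraticMap
open Cfsg.Agent.Lib.Helper11.AschO (gram perp)
open Cfsg.Agent.Lib.Helper80.AS (tmat IsLeftFactor GramTensor)
open scoped MatrixGroups Matrix Kronecker

variable {ι : Type} [Fintype ι] [DecidableEq ι] {F : Type*} [Field F]

theorem fri_three [Fintype F] (hq : Fintype.card F = 3) : (3 : F) = 0 := by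
  have := Nat.cast_card_eq_zero F
  rw [hq] at this
  exact_mod_cast this

theorem fri_cases [Fintype F] (hq : Fintype.card F = 3) (a : F) : a = 0 ∨ a = 1 ∨ a = -1 := by
  classical
  have h3 := fri_three hq
  have h2 : (2 : F) ≠ 0 := by
    intro h2
    have : (1 : F) = 0 := by linear_combination h3 - h2
    exact one_ne_zero this
  have h11 : (1 : F) ≠ -1 := by
    intro h
    apply h2
    linear_combination h
  have hs : ({0, 1, -1} : Finset F).card = 3 := by
    rw [Finset.card_insert_of_notMem, Finset.card_insert_of_notMem, Finset.card_singleton]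
    · simpa using h11
    · simp
  have hu : ({0, 1, -1} : Finset F) = Finset.univ := by
    apply Finset.eq_univ_of_card
    rw [hs, hq]
  have ha := Finset.mem_univ a
  rw [← hu] at ha
  simpa using ha

/-- FRI. -/
theorem frame_sim [Fintype F] (hq : Fintype.card F = 3) (f₁ : (Fin 3 → F) → (Fin 3 → F) → F) (hf₁ : IsSymmetricForm f₁) :
    ∃ (ε : F) (y : Fin 3 → Fin 3 → F), ε ≠ 0 ∧ (∀ k l, f₁ (y k) (y l) = if k = l then ε else 0) ∧
      Submodule.span F (Set.range y) = ⊤ ∧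
      ∀ (α : GL (Fin 3) F) (μ : F), μ ≠ 0 →
        (∀ a a', f₁ ((α : Matrix (Fin 3) (Fin 3) F) *ᵥ a) ((α : Matrix (Fin 3) (Fin 3) F) *ᵥ a') = μ * f₁ a a') →
        ∀ k, ∃ (l : Fin 3) (c : F), (α : Matrix (Fin 3) (Fin 3) F) *ᵥ y k = c • y l := by
  have hF := fri_cases hq
  have h3 := fri_three hq
  obtain ⟨ε, y, hfr⟩ := Cfsg.Agent.Lib.Helper17.FrameThree.exists_frame hF h3 hf₁
  refine ⟨ε, y, hfr.ne, hfr.orth, ?_, ?_⟩
  · rw [eq_top_iff]
    intro w _
    obtain ⟨a, rfl⟩ := hfr.span w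
    have hm : ∀ k, y k ∈ Submodule.span F (Set.range y) := fun k => Submodule.subset_span ⟨k, rfl⟩
    exact Submodule.add_mem _ (Submodule.add_mem _ (Submodule.smul_mem _ _ (hm 0))
      (Submodule.smul_mem _ _ (hm 1))) (Submodule.smul_mem _ _ (hm 2))
  · intro α μ hμ hα k
    have hk := hfr.fr hF h3 hf₁.bilinear k
    apply hfr.eq_of_fr hF h3 hf₁.bilinear
    refine ⟨?_, ?_⟩
    · rw [hα]
      exact mul_ne_zero hμ hk.1
    · intro v hv hvv
      have hgg : (α : Matrix (Fin 3) (Fin 3) F) * ((α⁻¹ : GL (Fin 3) F) : Matrix (Fin 3) (Fin 3) F) = 1 := by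
        rw [← Units.val_mul, mul_inv_cancel, Units.val_one]
      have e3 : v = (α : Matrix (Fin 3) (Fin 3) F) *ᵥ
          (((α⁻¹ : GL (Fin 3) F) : Matrix (Fin 3) (Fin 3) F) *ᵥ v) := by
        rw [Matrix.mulVec_mulVec, hgg, Matrix.one_mulVec]
      rw [e3, hα] at hv hvv
      have h1 := (mul_eq_zero.1 hv).resolve_left hμ
      have h2 := (mul_eq_zero.1 hvv).resolve_left hμ
      have h0 := hk.2 _ h1 h2
      rw [e3, h0, Matrix.mulVec_zero]

end Cfsg.Agent.Lib.Helper5.O9
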