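import Cfsg.Agent.Lib.Helper5.O9.FRW

/-! Sub-ladder O9P (S5835), rung FRS. -/

set_option autoImplicit false

namespace Cfsg.Agent.Lib.Helper5.O9

open Cfsg Cfsg.Geo QuadraticMap
open Cfsg.Agent.Lib.Helper11.AschO (gram perp)
open Cfsg.Agent.Lib.Helper80.AS (tmat IsLeftFactor GramTensor)
open scoped MatrixGroups Matrix Kronecker

variable {ι : Type} [Fintype ι] [DecidableEq ι] {F : Type*} [Field F]

theorem frame_system [Fintype F] (hq : Fintype.card F = 3) (Q : QuadraticForm F (ι → F))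
    (D : Fin 3 → Submodule F (ι → F)) (hD : IsOrthogonalMDecomposition Q 3 D) :
    ∃ (ε : F) (y : Fin 9 → ι → F), ε ≠ 0 ∧ (∀ j, Q (y j) = ε) ∧ (∀ j l, j ≠ l → polar Q (y j) (y l) = 0) ∧
      Submodule.span F (Set.range y) = ⊤ ∧ (∀ j, ∃ i, y j ∈ D i) ∧
      ∀ i, ∀ w ∈ D i, Q w = ε → ∃ j, w = y j ∨ w = - y j := by
  classical
  obtain ⟨ε, y₀, hε, hy₀W, hy₀Q, hy₀o, hy₀s, hy₀u⟩ :=
    frame_in_subspace hq Q (D 0) (hD.decomp.decomp.finrank_eq 0) (hD.decomp.nondegenerate 0)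
  choose φ hφ using fun i => hD.isometric 0 i
  let p : Fin 9 ≃ Fin 3 × Fin 3 := Fintype.equivOfCardEq (by simp)
  let y : Fin 9 → ι → F := fun j => (φ (p j).1 ⟨y₀ (p j).2, hy₀W _⟩ : ι → F)
  have hy : ∀ i k, y (p.symm (i, k)) = (φ i ⟨y₀ k, hy₀W _⟩ : ι → F) := by
    have hy' : ∀ j a, p j = a → y j = (φ a.1 ⟨y₀ a.2, hy₀W _⟩ : ι → F) := by
      intro j a h
      subst h
      rfl
    intro i k
    exact hy' _ (i, k) (p.apply_symm_apply _)
  have hpol : ∀ i (a b : D 0), polar Q (φ i a : ι → F) (φ i b : ι → F) = polar Q (a : ι → F) (b : ι → F) := by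
    intro i a b
    unfold QuadraticMap.polar
    have h1 : ((φ i a : D i) : ι → F) + ((φ i b : D i) : ι → F) = ((φ i (a + b) : D i) : ι → F) := by
      rw [map_add]
      rfl
    have h2 : (a : ι → F) + (b : ι → F) = ((a + b : D 0) : ι → F) := rfl
    rw [h1, h2]
    have e1 := hφ i (a + b)
    have e2 := hφ i a
    have e3 := hφ i b
    rw [e1, e2, e3]
  refine ⟨ε, y, hε, ?_, ?_, ?_, ?_, ?_⟩
  · intro j
    have := hφ (p j).1 ⟨y₀ (p j).2, hy₀W _⟩
    exact this.trans (hy₀Q _)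
  · intro j l hjl
    by_cases hi : (p j).1 = (p l).1
    · have hk : (p j).2 ≠ (p l).2 := by
        intro hk
        exact hjl (p.injective (Prod.ext hi hk))
      have : y l = (φ (p j).1 ⟨y₀ (p l).2, hy₀W _⟩ : ι → F) := by
        simp only [y]
        rw [hi]
      rw [this]
      exact (hpol _ _ _).trans (hy₀o _ _ hk)
    · exact hD.decomp.orthogonal _ _ hi _ (φ (p j).1 _).2 _ (φ (p l).1 _).2
  · rw [eq_top_iff, ← hD.decomp.decomp.iSup_eq_top]
    apply iSup_le
    intro i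
    have key : ∀ v (hv : v ∈ Submodule.span F (Set.range y₀)), ∀ h : v ∈ D 0,
        ((φ i ⟨v, h⟩ : D i) : ι → F) ∈ Submodule.span F (Set.range y) := by
      intro v hv
      induction hv using Submodule.span_induction with
      | mem x hx =>
        obtain ⟨k, rfl⟩ := hx
        intro h
        apply Submodule.subset_span
        exact ⟨p.symm (i, k), hy i k⟩
      | zero =>
        intro h
        have : (⟨0, h⟩ : D 0) = 0 := rfl
        rw [this, map_zero]
        exact Submodule.zero_mem _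
      | add a b ha hb iha ihb =>
        intro h
        have ha' : a ∈ D 0 := hy₀s ▸ ha
        have hb' : b ∈ D 0 := hy₀s ▸ hb
        have : (⟨a + b, h⟩ : D 0) = ⟨a, ha'⟩ + ⟨b, hb'⟩ := rfl
        rw [this, map_add]
        exact Submodule.add_mem _ (iha ha') (ihb hb')
      | smul c a ha iha =>
        intro h
        have ha' : a ∈ D 0 := hy₀s ▸ ha
        have : (⟨c • a, h⟩ : D 0) = c • ⟨a, ha'⟩ := rfl
        rw [this, map_smul]
        exact Submodule.smul_mem _ _ (iha ha')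
    intro w hw
    have h0 : (((φ i).symm ⟨w, hw⟩ : D 0) : ι → F) ∈ Submodule.span F (Set.range y₀) := by
      rw [hy₀s]
      exact ((φ i).symm ⟨w, hw⟩ : D 0).2
    have h1 := key ((φ i).symm ⟨w, hw⟩ : D 0) h0 ((φ i).symm ⟨w, hw⟩ : D 0).2
    simpa using h1
  · intro j
    exact ⟨(p j).1, (φ (p j).1 _).2⟩
  · intro i w hw hQw
    set w₀ : D 0 := (φ i).symm ⟨w, hw⟩ with hw₀
    have hw' : ((φ i w₀ : D i) : ι → F) = w := by
      rw [hw₀, LinearEquiv.apply_symm_apply]
    have hQ0 : Q (w₀ : ι → F) = ε := by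
      rw [← hQw, ← hw']
      exact (hφ i w₀).symm
    obtain ⟨k, hk | hk⟩ := hy₀u _ w₀.2 hQ0
    · refine ⟨p.symm (i, k), Or.inl ?_⟩
      rw [hy, ← hw']
      congr 2
      exact Subtype.ext hk
    · refine ⟨p.symm (i, k), Or.inr ?_⟩
      rw [hy, ← hw']
      have : w₀ = - (⟨y₀ k, hy₀W _⟩ : D 0) := Subtype.ext hk
      rw [this, map_neg]
      rfl

end Cfsg.Agent.Lib.Helper5.O9
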