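import Cfsg.Agent.Lib.Helper5.O9.Defs
import Cfsg.Agent.Lib.Helper17.FrameThree

/-! Sub-ladder O9P (S5835), rung FRW. -/

set_option autoImplicit false

namespace Cfsg.Agent.Lib.Helper5.O9

open Cfsg Cfsg.Geo QuadraticMap
open Cfsg.Agent.Lib.Helper11.AschO (gram perp)
open Cfsg.Agent.Lib.Helper80.AS (tmat IsLeftFactor GramTensor)
open scoped MatrixGroups Matrix Kronecker

variable {ι : Type} [Fintype ι] [DecidableEq ι] {F : Type*} [Field F]

theorem frw_three [Fintype F] (hq : Fintype.card F = 3) : (3 : F) = 0 := by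
  have hcast : ((Fintype.card F : ℕ) : F) = 0 := Nat.cast_card_eq_zero F
  rw [hq] at hcast
  exact_mod_cast hcast

theorem frw_elts [Fintype F] (hq : Fintype.card F = 3) : ∀ a : F, a = 0 ∨ a = 1 ∨ a = -1 := by
  classical
  have h3 := frw_three hq
  intro a
  by_contra hcon
  push Not at hcon
  have h10 : (1 : F) ≠ -1 := by
    intro h
    have : (1 : F) = 0 := by linear_combination h3 - h
    exact one_ne_zero this
  have h4 : ({0, 1, -1, a} : Finset F).card = 4 := by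
    rw [Finset.card_insert_of_notMem, Finset.card_insert_of_notMem, Finset.card_insert_of_notMem,
      Finset.card_singleton]
    · simp [hcon.2.2.symm]
    · simp [hcon.2.1.symm, h10]
    · simp [hcon.1.symm]
  have h5 := Finset.card_le_univ ({0, 1, -1, a} : Finset F)
  omega

theorem frw_cases (hF : ∀ a : F, a = 0 ∨ a = 1 ∨ a = -1) (h3 : (3 : F) = 0) (c0 c1 c2 : F)
    (h : c0 * c0 + c1 * c1 + c2 * c2 = 1) :
    ((c0 = 1 ∨ c0 = -1) ∧ c1 = 0 ∧ c2 = 0) ∨ (c0 = 0 ∧ (c1 = 1 ∨ c1 = -1) ∧ c2 = 0) ∨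
      (c0 = 0 ∧ c1 = 0 ∧ (c2 = 1 ∨ c2 = -1)) := by
  have h1 : (1 : F) ≠ 0 := one_ne_zero
  rcases hF c0 with rfl | rfl | rfl <;> rcases hF c1 with rfl | rfl | rfl <;>
    rcases hF c2 with rfl | rfl | rfl <;>
    first
      | (exfalso; apply h1; linear_combination -h)
      | (exfalso; apply h1; linear_combination h)
      | (exfalso; apply h1; linear_combination h3 - h)
      | simp

/-- FRW. -/
theorem frame_in_subspace [Fintype F] (hq : Fintype.card F = 3) (Q : QuadraticForm F (ι → F)) (W : Submodule F (ι → F))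
    (hd : Module.finrank F W = 3) (hW : IsNondegenerateOn (polar Q) W) :
    ∃ (ε : F) (y : Fin 3 → ι → F), ε ≠ 0 ∧ (∀ k, y k ∈ W) ∧ (∀ k, Q (y k) = ε) ∧
      (∀ k l, k ≠ l → polar Q (y k) (y l) = 0) ∧ Submodule.span F (Set.range y) = W ∧
      ∀ w ∈ W, Q w = ε → ∃ k, w = y k ∨ w = - y k := by
  have h3 := frw_three hq
  have hF := frw_elts hq
  let β : Module.Basis (Fin 3) F W := Module.finBasisOfFinrankEq F W hd
  let L : (Fin 3 → F) →ₗ[F] (ι → F) := W.subtype ∘ₗ β.equivFun.symm.toLinearMap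
  have hLW : ∀ a, L a ∈ W := fun a => (β.equivFun.symm a).2
  have hLinj : ∀ a, L a = 0 → a = 0 := by
    intro a ha
    have h1 : β.equivFun.symm a = 0 := Subtype.ext ha
    exact (LinearEquiv.map_eq_zero_iff _).1 h1
  have hLsurj : ∀ w ∈ W, ∃ a, L a = w := by
    intro w hw
    refine ⟨β.equivFun ⟨w, hw⟩, ?_⟩
    change ((β.equivFun.symm (β.equivFun ⟨w, hw⟩) : W) : ι → F) = w
    rw [LinearEquiv.symm_apply_apply]
  let f₁ : (Fin 3 → F) → (Fin 3 → F) → F := fun a b => polar Q (L a) (L b)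
  have hf₁ : IsSymmetricForm f₁ := by
    refine ⟨⟨?_, ?_, ?_, ?_⟩, ?_, ?_⟩
    · intro x y v
      simp only [f₁, map_add, polar_add_left]
    · intro c x v
      simp only [f₁, map_smul, polar_smul_left, smul_eq_mul]
    · intro v x y
      simp only [f₁, map_add, polar_add_right]
    · intro c v x
      simp only [f₁, map_smul, polar_smul_right, smul_eq_mul]
    · intro u v
      exact polar_comm Q _ _
    · intro v hv
      have hv' : L v ≠ 0 := fun h => hv (hLinj v h)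
      obtain ⟨⟨x, hx, hx1⟩, ⟨x', hx', hx1'⟩⟩ := hW (L v) (hLW v) hv'
      obtain ⟨a, rfl⟩ := hLsurj x hx
      obtain ⟨a', rfl⟩ := hLsurj x' hx'
      exact ⟨⟨a, hx1⟩, ⟨a', hx1'⟩⟩
  obtain ⟨ε₁, y₁, hy⟩ := Cfsg.Agent.Lib.Helper17.FrameThree.exists_frame hF h3 hf₁
  have hQ : ∀ a, Q (L a) = - f₁ a a := by
    intro a
    have h1 : f₁ a a = 2 • Q (L a) := polar_self Q (L a)
    rw [h1, two_smul]
    linear_combination (Q (L a)) * h3
  refine ⟨-ε₁, fun k => L (y₁ k), neg_ne_zero.2 hy.ne, fun k => hLW _, ?_, ?_, ?_, ?_⟩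
  · intro k
    rw [hQ, hy.orth, if_pos rfl]
  · intro k l hkl
    have := hy.orth k l
    rw [if_neg hkl] at this
    exact this
  · apply le_antisymm
    · rw [Submodule.span_le]
      rintro _ ⟨k, rfl⟩
      exact hLW _
    · intro w hw
      obtain ⟨a, rfl⟩ := hLsurj w hw
      obtain ⟨c, hc⟩ := hy.span a
      rw [hc]
      simp only [map_add, map_smul]
      have hm : ∀ k, L (y₁ k) ∈ Submodule.span F (Set.range fun k => L (y₁ k)) :=
        fun k => Submodule.subset_span ⟨k, rfl⟩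
      exact Submodule.add_mem _ (Submodule.add_mem _ (Submodule.smul_mem _ _ (hm 0))
        (Submodule.smul_mem _ _ (hm 1))) (Submodule.smul_mem _ _ (hm 2))
  · intro w hw hQw
    obtain ⟨a, rfl⟩ := hLsurj w hw
    obtain ⟨c, hc⟩ := hy.span a
    have h1 : f₁ a a = ε₁ * (c 0 * c 0 + c 1 * c 1 + c 2 * c 2) := by
      rw [hc]
      exact hy.form hf₁.bilinear c c
    rw [hQ, h1] at hQw
    have h2 : c 0 * c 0 + c 1 * c 1 + c 2 * c 2 = 1 := by
      apply mul_left_cancel₀ hy.ne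
      linear_combination -hQw
    rcases frw_cases hF h3 _ _ _ h2 with ⟨h0, h1', h2'⟩ | ⟨h0, h1', h2'⟩ | ⟨h0, h1', h2'⟩
    · refine ⟨0, ?_⟩
      rw [hc, h1', h2']
      rcases h0 with h0 | h0 <;> rw [h0] <;> simp
    · refine ⟨1, ?_⟩
      rw [hc, h0, h2']
      rcases h1' with h1' | h1' <;> rw [h1'] <;> simp
    · refine ⟨2, ?_⟩
      rw [hc, h0, h1']
      rcases h2' with h2' | h2' <;> rw [h2'] <;> simp

end Cfsg.Agent.Lib.Helper5.O9
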