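import Cfsg.Agent.Lib.Helper5.O9.Defs

/-! Sub-ladder O9P (S5835), rung KSIM. -/

set_option autoImplicit false

namespace Cfsg.Agent.Lib.Helper5.O9

open Cfsg Cfsg.Geo QuadraticMap
open Cfsg.Agent.Lib.Helper11.AschO (gram perp)
open Cfsg.Agent.Lib.Helper80.AS (tmat IsLeftFactor GramTensor)
open scoped MatrixGroups Matrix Kronecker

variable {ι : Type} [Fintype ι] [DecidableEq ι] {F : Type*} [Field F]

/-- KSIM (pure bilinear algebra). -/
theorem sim_of_tensor (f₁ : (Fin 3 → F) → (Fin 3 → F) → F) (hf₁ : IsSymmetricForm f₁) (α β : (Fin 3 → F) → (Fin 3 → F))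
    (h : ∀ a b a' b', f₁ (α a) (α a') * f₁ (β b) (β b') = f₁ a a' * f₁ b b') :
    ∃ μ : F, μ ≠ 0 ∧ (∀ a a', f₁ (α a) (α a') = μ * f₁ a a') ∧ (∀ b b', f₁ (β b) (β b') = μ⁻¹ * f₁ b b') := by
  have hv : (Pi.single 0 1 : Fin 3 → F) ≠ 0 := by
    intro h
    have := congrFun h 0
    simp at this
  obtain ⟨⟨b₀, hb₀⟩, -⟩ := hf₁.nondegenerate _ hv
  generalize (Pi.single 0 1 : Fin 3 → F) = b₁ at hb₀
  have h00 := h b₀ b₀ b₁ b₁
  have hAB : f₁ (α b₀) (α b₁) * f₁ (β b₀) (β b₁) ≠ 0 := by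
    rw [h00]; exact mul_ne_zero hb₀ hb₀
  have hA := left_ne_zero_of_mul hAB
  have hB := right_ne_zero_of_mul hAB
  have h1 : ∀ a a', f₁ (α a) (α a') = f₁ b₀ b₁ / f₁ (β b₀) (β b₁) * f₁ a a' := by
    intro a a'
    have := h a b₀ a' b₁
    field_simp
    linear_combination this
  refine ⟨f₁ b₀ b₁ / f₁ (β b₀) (β b₁), div_ne_zero hb₀ hB, h1, ?_⟩
  intro b b'
  have h2 := h b₀ b b₁ b'
  have h3 : f₁ (β b) (β b') = f₁ b₀ b₁ * f₁ b b' / f₁ (α b₀) (α b₁) := by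
    field_simp
    linear_combination h2
  rw [h3, inv_div]
  field_simp
  linear_combination (-(f₁ b b')) * h00

end Cfsg.Agent.Lib.Helper5.O9
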