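import Cfsg.Agent.Lib.Helper5.O9.Defs

/-! Sub-ladder O9P (S5835), rung LI. -/

set_option autoImplicit false

namespace Cfsg.Agent.Lib.Helper5.O9

open Cfsg Cfsg.Geo QuadraticMap
open Cfsg.Agent.Lib.Helper11.AschO (gram perp)
open Cfsg.Agent.Lib.Helper80.AS (tmat IsLeftFactor GramTensor)
open scoped MatrixGroups Matrix Kronecker

variable {ι : Type} [Fintype ι] [DecidableEq ι] {F : Type*} [Field F]

/-- LI. -/
theorem linearIndependent_of_orth (h2 : (2 : F) ≠ 0) (Q : QuadraticForm F (ι → F)) {n : ℕ} (ε : F) (hε : ε ≠ 0)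
    (y : Fin n → ι → F) (hQy : ∀ j, Q (y j) = ε) (horth : ∀ j l, j ≠ l → polar Q (y j) (y l) = 0) :
    LinearIndependent F y := by
  rw [Fintype.linearIndependent_iff]
  intro c hc l
  have h1 : polarBilin Q (∑ j, c j • y j) (y l) = 0 := by rw [hc, map_zero, LinearMap.zero_apply]
  rw [map_sum, LinearMap.sum_apply, Finset.sum_eq_single l] at h1
  · rw [map_smul, LinearMap.smul_apply, polarBilin_apply_apply, polar_self, hQy, smul_eq_mul, two_nsmul, ← two_mul] at h1
    exact (mul_eq_zero.1 h1).resolve_right (mul_ne_zero h2 hε)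
  · intro j _ hj
    rw [map_smul, LinearMap.smul_apply, polarBilin_apply_apply, horth j l hj, smul_zero]
  · intro h
    exact absurd (Finset.mem_univ l) h

end Cfsg.Agent.Lib.Helper5.O9
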