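import Cfsg.Agent.Lib.Helper5.O9.Defs

/-! Sub-ladder O9P (S5835), rung LINES. -/

set_option autoImplicit false

namespace Cfsg.Agent.Lib.Helper5.O9

open Cfsg Cfsg.Geo QuadraticMap
open Cfsg.Agent.Lib.Helper11.AschO (gram perp)
open Cfsg.Agent.Lib.Helper80.AS (tmat IsLeftFactor GramTensor)
open scoped MatrixGroups Matrix Kronecker

variable {ι : Type} [Fintype ι] [DecidableEq ι] {F : Type*} [Field F]

/-- LINES. -/
theorem mem_stab_of_lines {n : ℕ} (y : Fin n → ι → F) (hy : LinearIndependent F y) (g : GL ι F)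
    (hg : ∀ j, ∃ (l : Fin n) (c : F), (g : Matrix ι ι F) *ᵥ y j = c • y l) :
    g ∈ decompositionStabilizer (fun j => Submodule.span F {y j}) := by
  choose τ c hτ using hg
  have hinj : ∀ v : ι → F, (g : Matrix ι ι F) *ᵥ v = 0 → v = 0 := by
    intro v hv
    have : ((g⁻¹ : GL ι F) : Matrix ι ι F) *ᵥ ((g : Matrix ι ι F) *ᵥ v) = v := by
      rw [Matrix.mulVec_mulVec, ← Units.val_mul, inv_mul_cancel, Units.val_one, Matrix.one_mulVec]
    rw [← this, hv, Matrix.mulVec_zero]
  have hc0 : ∀ j, c j ≠ 0 := by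
    intro j h0
    have h1 := hτ j
    rw [h0, zero_smul] at h1
    exact hy.ne_zero j (hinj _ h1)
  have hτinj : Function.Injective τ := by
    intro j l hjl
    by_contra hne
    have h1 : (g : Matrix ι ι F) *ᵥ (c l • y j - c j • y l) = 0 := by
      rw [Matrix.mulVec_sub, Matrix.mulVec_smul, Matrix.mulVec_smul, hτ j, hτ l, hjl, smul_smul, smul_smul,
        mul_comm, sub_self]
    have h2 := hinj _ h1
    have h3 : Finsupp.single j (c l) = Finsupp.single l (c j) := hy (by
      rw [Finsupp.linearCombination_single, Finsupp.linearCombination_single]; exact sub_eq_zero.1 h2)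
    have h4 := DFunLike.congr_fun h3 j
    rw [Finsupp.single_eq_same, Finsupp.single_apply, if_neg (fun h => hne h.symm)] at h4
    exact hc0 l h4
  refine ⟨Equiv.ofBijective τ (Finite.injective_iff_bijective.1 hτinj), fun j => ?_⟩
  rw [Submodule.map_span, Set.image_singleton, Matrix.toLin'_apply, hτ j, Equiv.ofBijective_apply]
  exact Submodule.span_singleton_smul_eq (IsUnit.mk0 _ (hc0 j)) _

end Cfsg.Agent.Lib.Helper5.O9
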