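import Cfsg.Agent.Lib.Helper5.O9.Defs
import Cfsg.Agent.Lib.Helper5.O9.LI

/-! Sub-ladder O9P (S5835), rung ORTHD. -/

set_option autoImplicit false

namespace Cfsg.Agent.Lib.Helper5.O9

open Cfsg Cfsg.Geo QuadraticMap
open Cfsg.Agent.Lib.Helper11.AschO (gram perp)
open Cfsg.Agent.Lib.Helper80.AS (tmat IsLeftFactor GramTensor)
open scoped MatrixGroups Matrix Kronecker

variable {ι : Type} [Fintype ι] [DecidableEq ι] {F : Type*} [Field F]

/-- ORTHD. -/
theorem orthDecomp_of_frame (h2 : (2 : F) ≠ 0) (Q : QuadraticForm F (ι → F)) {n : ℕ} (hn : 2 ≤ n) (ε : F) (hε : ε ≠ 0)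
    (y : Fin n → ι → F) (hQy : ∀ j, Q (y j) = ε) (horth : ∀ j l, j ≠ l → polar Q (y j) (y l) = 0)
    (hspan : Submodule.span F (Set.range y) = ⊤) :
    IsOrthogonalMDecomposition Q 1 (fun j => Submodule.span F {y j}) := by
  have hli := linearIndependent_of_orth h2 Q ε hε y hQy horth
  have hy0 : ∀ j, y j ≠ 0 := fun j => hli.ne_zero j
  have hself : ∀ j, polar Q (y j) (y j) = 2 * ε := by
    intro j
    rw [polar_self, hQy, two_nsmul, two_mul]
  refine ⟨⟨⟨hn, one_pos, fun j => finrank_span_singleton (hy0 j), hli.iSupIndep_span_singleton, ?_⟩, ?_, ?_⟩, ?_⟩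
  · rw [← Submodule.span_range_eq_iSup, hspan]
  · intro j w hw hw0
    obtain ⟨c, rfl⟩ := Submodule.mem_span_singleton.1 hw
    have hc : c ≠ 0 := by
      rintro rfl
      exact hw0 (zero_smul _ _)
    refine ⟨⟨y j, Submodule.mem_span_singleton_self _, ?_⟩, ⟨y j, Submodule.mem_span_singleton_self _, ?_⟩⟩
    · rw [polar_smul_right, hself, smul_eq_mul]
      exact mul_ne_zero hc (mul_ne_zero h2 hε)
    · rw [polar_smul_left, hself, smul_eq_mul]
      exact mul_ne_zero hc (mul_ne_zero h2 hε)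
  · intro i j hij u hu v hv
    obtain ⟨a, rfl⟩ := Submodule.mem_span_singleton.1 hu
    obtain ⟨b, rfl⟩ := Submodule.mem_span_singleton.1 hv
    rw [polar_smul_left, polar_smul_right, horth i j hij, smul_zero, smul_zero]
  · intro i j
    let e1 := LinearEquiv.toSpanNonzeroSingleton F (ι → F) (y i) (hy0 i)
    let e2 := LinearEquiv.toSpanNonzeroSingleton F (ι → F) (y j) (hy0 j)
    have he1 : ∀ c : F, ((e1 c : Submodule.span F {y i}) : ι → F) = c • y i := fun c => rfl
    have he2 : ∀ c : F, ((e2 c : Submodule.span F {y j}) : ι → F) = c • y j := fun c => rfl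
    refine ⟨e1.symm.trans e2, fun w => ?_⟩
    obtain ⟨c, rfl⟩ := e1.surjective w
    rw [LinearEquiv.trans_apply, LinearEquiv.symm_apply_apply, he1, he2, QuadraticMap.map_smul,
      QuadraticMap.map_smul, hQy, hQy]

end Cfsg.Agent.Lib.Helper5.O9
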