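import Cfsg.Agent.Lib.Helper5.O9.Defs

/-! Sub-ladder O9P (S5835), rung PWF. -/

set_option autoImplicit false

namespace Cfsg.Agent.Lib.Helper5.O9

open Cfsg Cfsg.Geo QuadraticMap
open Cfsg.Agent.Lib.Helper11.AschO (gram perp)
open Cfsg.Agent.Lib.Helper80.AS (tmat IsLeftFactor GramTensor)
open scoped MatrixGroups Matrix Kronecker

variable {ι : Type} [Fintype ι] [DecidableEq ι] {F : Type*} [Field F]

theorem pwf_form (f₁ : (Fin 3 → F) → (Fin 3 → F) → F) (hf₁ : IsBilinearForm f₁) (a a' : Fin 3 → F) :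
    f₁ a a' = ∑ i, ∑ j, a i * gramMatrix f₁ i j * a' j := by
  have hd : ∀ a : Fin 3 → F, a = a 0 • Pi.single 0 1 + a 1 • Pi.single 1 1 + a 2 • Pi.single 2 1 := by
    intro a
    ext i
    fin_cases i <;> simp
  conv_lhs => rw [hd a, hd a']
  simp only [hf₁.add_left, hf₁.add_right, hf₁.smul_left, hf₁.smul_right, Fin.sum_univ_three, gramMatrix]
  ring

theorem pwf_sum (g : (Fin 2 → Fin 3) → F) : ∑ x, g x = ∑ i, ∑ k, g ![i, k] := by
  rw [← (finTwoArrowEquiv (Fin 3)).symm.sum_comp, Fintype.sum_prod_type]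
  rfl

/-- PWF. -/
theorem form_pure (f : (ι → F) → (ι → F) → F) (f₁ : (Fin 3 → F) → (Fin 3 → F) → F) (hf₁ : IsBilinearForm f₁)
    (e : ι ≃ (Fin 2 → Fin 3)) (P : GL ι F) (c : F)
    (hc : ∀ x y : (Fin 2 → Fin 3) → F, f ((P : Matrix ι ι F) *ᵥ (x ∘ e)) ((P : Matrix ι ι F) *ᵥ (y ∘ e)) =
      c * ∑ a, ∑ b, x a * (∏ i, gramMatrix f₁ (a i) (b i)) * id (y b))
    (a b a' b' : Fin 3 → F) :
    f ((P : Matrix ι ι F) *ᵥ (pv a b ∘ e)) ((P : Matrix ι ι F) *ᵥ (pv a' b' ∘ e)) = c * (f₁ a a' * f₁ b b') := by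
  rw [hc, pwf_form f₁ hf₁ a a', pwf_form f₁ hf₁ b b']
  congr 1
  simp only [pwf_sum, pv, Fin.prod_univ_two, id, Matrix.cons_val_zero, Matrix.cons_val_one]
  generalize gramMatrix f₁ = G
  simp only [Fin.sum_univ_three]
  ring

end Cfsg.Agent.Lib.Helper5.O9
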