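import Cfsg.Agent.Lib.Helper5.O9.Defs

/-! Sub-ladder O9P (S5835), rung PWN. -/

set_option autoImplicit false

namespace Cfsg.Agent.Lib.Helper5.O9

open Cfsg Cfsg.Geo QuadraticMap
open Cfsg.Agent.Lib.Helper11.AschO (gram perp)
open Cfsg.Agent.Lib.Helper80.AS (tmat IsLeftFactor GramTensor)
open scoped MatrixGroups Matrix Kronecker

variable {ι : Type} [Fintype ι] [DecidableEq ι] {F : Type*} [Field F]

theorem pwn_minor (a a' : Fin 3 → F) (ha : LinearIndependent F ![a, a']) :
    ∃ i j, a i * a' j - a j * a' i ≠ 0 := by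
  by_contra hcon
  push Not at hcon
  rw [LinearIndependent.pair_iff] at ha
  have h0 : ∀ i, a i = 0 := by
    intro i
    have h1 := ha (a' i) (-(a i)) (by
      funext j
      have h2 := hcon i j
      simp only [Pi.add_apply, Pi.smul_apply, smul_eq_mul, Pi.zero_apply]
      linear_combination -h2)
    simpa using h1.2
  have h3 := ha 1 0 (by funext j; simp [h0 j])
  exact one_ne_zero h3.1

/-- PWN. -/
theorem not_pure_add (e : ι ≃ (Fin 2 → Fin 3)) (P : GL ι F) (a a' b b' : Fin 3 → F)
    (ha : LinearIndependent F ![a, a']) (hb : LinearIndependent F ![b, b']) :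
    ¬ IsPure e P ((P : Matrix ι ι F) *ᵥ ((pv a b + pv a' b') ∘ e)) := by
  rintro ⟨c, d, h⟩
  have h1 : (pv a b + pv a' b') ∘ e = pv c d ∘ e := by
    have h0 := congrArg (fun w => ((P⁻¹ : GL ι F) : Matrix ι ι F) *ᵥ w) h
    simp only [Matrix.mulVec_mulVec, ← Units.val_mul, inv_mul_cancel, Units.val_one,
      Matrix.one_mulVec] at h0
    exact h0
  have h2 : ∀ x, (pv a b + pv a' b') x = pv c d x := by
    intro x
    have h3 := congrFun h1 (e.symm x)
    simpa using h3
  obtain ⟨i, j, hij⟩ := pwn_minor a a' ha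
  obtain ⟨k, l, hkl⟩ := pwn_minor b b' hb
  have e1 := h2 ![i, k]
  have e2 := h2 ![j, l]
  have e3 := h2 ![i, l]
  have e4 := h2 ![j, k]
  simp only [pv, Pi.add_apply, Matrix.cons_val_zero, Matrix.cons_val_one] at e1 e2 e3 e4
  apply mul_ne_zero hij hkl
  have h5 : (a i * a' j - a j * a' i) * (b k * b' l - b l * b' k) =
      (a i * b k + a' i * b' k) * (a j * b l + a' j * b' l) -
        (a i * b l + a' i * b' l) * (a j * b k + a' j * b' k) := by ring
  rw [h5, e1, e2, e3, e4]
  ring

end Cfsg.Agent.Lib.Helper5.O9
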