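import Cfsg.Agent.Lib.Helper5.O9.Defs
import Cfsg.Agent.Lib.Helper59.Asch9.PR8

/-! Sub-ladder O9P (S5835), rung PWP. -/

set_option autoImplicit false

namespace Cfsg.Agent.Lib.Helper5.O9

open Cfsg Cfsg.Geo QuadraticMap
open Cfsg.Agent.Lib.Helper11.AschO (gram perp)
open Cfsg.Agent.Lib.Helper80.AS (tmat IsLeftFactor GramTensor)
open scoped MatrixGroups Matrix Kronecker

variable {ι : Type} [Fintype ι] [DecidableEq ι] {F : Type*} [Field F]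

theorem pwp_reindex_mulVec {κ : Type} [Fintype κ] [DecidableEq κ] (e : ι ≃ κ) (g₀ : GL κ F) (x : κ → F) :
    ((glReindex e.symm g₀ : GL ι F) : Matrix ι ι F) *ᵥ (x ∘ e) =
      ((g₀ : Matrix κ κ F) *ᵥ x) ∘ e := by
  funext i
  change (Matrix.reindex e.symm e.symm (g₀ : Matrix κ κ F) *ᵥ (x ∘ e)) i = _
  simp only [Matrix.mulVec, dotProduct, Matrix.reindex_apply, Matrix.submatrix_apply, Function.comp,
    Equiv.symm_symm]
  exact Equiv.sum_comp e (fun y => (g₀ : Matrix κ κ F) (e i) y * x y)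

/-- the action of a conjugated reindexed matrix in the coordinates `(e, P)`. -/
theorem pwp_conj_mulVec {κ : Type} [Fintype κ] [DecidableEq κ] (e : ι ≃ κ) (P : GL ι F) (g₀ : GL κ F)
    (x : κ → F) :
    ((P * glReindex e.symm g₀ * P⁻¹ : GL ι F) : Matrix ι ι F) *ᵥ ((P : Matrix ι ι F) *ᵥ (x ∘ e)) =
      (P : Matrix ι ι F) *ᵥ (((g₀ : Matrix κ κ F) *ᵥ x) ∘ e) := by
  rw [Units.val_mul, Units.val_mul, Matrix.mulVec_mulVec, mul_assoc, ← Units.val_mul P⁻¹,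
    inv_mul_cancel, Units.val_one, mul_one, ← Matrix.mulVec_mulVec, pwp_reindex_mulVec]

theorem pwp_mem_iff (e : ι ≃ (Fin 2 → Fin 3)) (P g : GL ι F) :
    g ∈ tensorWreathSubgroup 3 2 e P ↔
      ∃ g₀ ∈ tensorWreathStandard 3 2 F, g = P * glReindex e.symm g₀ * P⁻¹ := by
  unfold tensorWreathSubgroup
  constructor
  · rintro ⟨_, ⟨g₀, hg₀, rfl⟩, rfl⟩
    exact ⟨g₀, hg₀, rfl⟩
  · rintro ⟨g₀, hg₀, rfl⟩
    exact ⟨_, ⟨g₀, hg₀, rfl⟩, rfl⟩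

/-- PWP. -/
theorem pure_of_mem (e : ι ≃ (Fin 2 → Fin 3)) (P g : GL ι F) (hg : g ∈ tensorWreathSubgroup 3 2 e P) (v : ι → F)
    (hv : IsPure e P v) : IsPure e P ((g : Matrix ι ι F) *ᵥ v) := by
  obtain ⟨a, b, rfl⟩ := hv
  obtain ⟨g₀, hg₀, rfl⟩ := (pwp_mem_iff e P g).1 hg
  obtain ⟨vs, hvs⟩ := (Cfsg.Agent.Lib.Helper59.Asch9.pr8_std g₀ hg₀).1 (pv a b)
    ⟨![a, b], fun x => by simp [pv, Fin.prod_univ_two]⟩
  refine ⟨vs 0, vs 1, ?_⟩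
  have h2 : (g₀ : Matrix (Fin 2 → Fin 3) (Fin 2 → Fin 3) F) *ᵥ pv a b = pv (vs 0) (vs 1) := by
    funext x
    rw [hvs x, Fin.prod_univ_two]
    rfl
  rw [pwp_conj_mulVec, h2]

end Cfsg.Agent.Lib.Helper5.O9
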