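import Cfsg.Agent.Lib.Helper5.O9.SIM3A

/-! Sub-ladder O9P (S5835), rung SIM3. -/

set_option autoImplicit false

namespace Cfsg.Agent.Lib.Helper5.O9

open Cfsg Cfsg.Geo QuadraticMap
open Cfsg.Agent.Lib.Helper11.AschO (gram perp)
open Cfsg.Agent.Lib.Helper80.AS (tmat IsLeftFactor GramTensor)
open scoped MatrixGroups Matrix Kronecker

variable {ι : Type} [Fintype ι] [DecidableEq ι] {F : Type*} [Field F]

theorem sim3_norm [Fintype F] (h2 : (2 : F) ≠ 0) (J : Matrix (Fin 3) (Fin 3) F) (hs : Jᵀ = J) (hd : J.det ≠ 0) :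
    ∃ (b : GL (Fin 3) F) (d : F), d ≠ 0 ∧
      (b : Matrix (Fin 3) (Fin 3) F)ᵀ * (d • J) * (b : Matrix (Fin 3) (Fin 3) F) = 1 := by
  obtain ⟨b₁, δ₁, hδ₁, h1⟩ := diag_one_one h2 J hs hd
  have hs' : (δ₁ • J)ᵀ = δ₁ • J := by rw [Matrix.transpose_smul, hs]
  have hd' : (δ₁ • J).det ≠ 0 := by
    rw [Matrix.det_smul]
    exact mul_ne_zero (pow_ne_zero _ hδ₁) hd
  obtain ⟨b', δ, hδ, h'⟩ := diag_one_one h2 (δ₁ • J) hs' hd'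
  have e1 := congrArg Matrix.det h1
  have e2 := congrArg Matrix.det h'
  rw [Matrix.det_mul, Matrix.det_mul, Matrix.det_transpose, Matrix.det_diagonal, Fin.prod_univ_three] at e1 e2
  rw [Matrix.det_smul, Fintype.card_fin] at e2
  simp only [Matrix.cons_val_zero, Matrix.cons_val_one, Matrix.cons_val, one_mul] at e1 e2
  have hb1 : (b₁ : Matrix (Fin 3) (Fin 3) F).det ≠ 0 := by
    intro h0
    rw [h0] at e1
    apply hδ₁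
    rw [← e1]
    ring
  generalize (b₁ : Matrix (Fin 3) (Fin 3) F).det = B₁ at e1 hb1
  generalize hB' : (b' : Matrix (Fin 3) (Fin 3) F).det = B' at e2
  have hkey : δ * B₁ ^ 2 = (B' * δ₁ ^ 2) ^ 2 := by
    rw [← e2]
    linear_combination (B' ^ 2 * δ₁ ^ 3) * e1
  obtain ⟨s, hs0, hss⟩ : ∃ s : F, s ≠ 0 ∧ δ = s ^ 2 := by
    refine ⟨B' * δ₁ ^ 2 / B₁, ?_, ?_⟩
    · intro h0
      rw [div_eq_zero_iff] at h0
      rcases h0 with h0 | h0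
      · rw [h0] at hkey
        have : δ * B₁ ^ 2 ≠ 0 := mul_ne_zero hδ (pow_ne_zero _ hb1)
        apply this
        rw [hkey]
        ring
      · exact hb1 h0
    · rw [div_pow, ← hkey]
      field_simp
  have hT : (Matrix.diagonal ![1, 1, s⁻¹] : Matrix (Fin 3) (Fin 3) F).det ≠ 0 := by
    rw [Matrix.det_diagonal, Fin.prod_univ_three]
    simp only [Matrix.cons_val_zero, Matrix.cons_val_one, Matrix.cons_val, one_mul]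
    exact inv_ne_zero hs0
  refine ⟨b' * Matrix.GeneralLinearGroup.mkOfDetNeZero _ hT, δ₁, hδ₁, ?_⟩
  rw [Units.val_mul, Matrix.transpose_mul]
  change (Matrix.diagonal ![1, 1, s⁻¹] : Matrix (Fin 3) (Fin 3) F)ᵀ * (b' : Matrix (Fin 3) (Fin 3) F)ᵀ * (δ₁ • J) *
    ((b' : Matrix (Fin 3) (Fin 3) F) * (Matrix.diagonal ![1, 1, s⁻¹] : Matrix (Fin 3) (Fin 3) F)) = 1
  have h3 : (Matrix.diagonal ![1, 1, s⁻¹] : Matrix (Fin 3) (Fin 3) F)ᵀ * (b' : Matrix (Fin 3) (Fin 3) F)ᵀ * (δ₁ • J) *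
    ((b' : Matrix (Fin 3) (Fin 3) F) * (Matrix.diagonal ![1, 1, s⁻¹] : Matrix (Fin 3) (Fin 3) F)) =
    (Matrix.diagonal ![1, 1, s⁻¹] : Matrix (Fin 3) (Fin 3) F)ᵀ * ((b' : Matrix (Fin 3) (Fin 3) F)ᵀ * (δ₁ • J) *
    (b' : Matrix (Fin 3) (Fin 3) F)) * (Matrix.diagonal ![1, 1, s⁻¹] : Matrix (Fin 3) (Fin 3) F) := by
    simp only [mul_assoc]
  rw [h3, h', Matrix.diagonal_transpose, Matrix.diagonal_mul_diagonal, Matrix.diagonal_mul_diagonal,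
    ← Matrix.diagonal_one]
  congr 1
  funext i
  fin_cases i
  · simp
  · simp
  · simp only [hss]
    simp
    field_simp

/-- SIM3 (from SIM3A).  SIM3A for `δ₁⁻¹ • J₁`?  Simplest: apply SIM3A to `J₁' := δ • J₁` for a suitable scalar.  Route: SIM3A gives `b₁ᵀ J₁ b₁ = diag (1,1,δ₁)`.  Then `δ₁ • J₁ ≅ diag (δ₁, δ₁, δ₁²) ≅ diag (δ₁, δ₁, 1)` (scale the last vector by `δ₁⁻¹`), of determinant class `1`; SIM3A for `δ₁ • J₁`: `diag (1, 1, δ)` with `δ = det(..)²·δ₁⁴·det J₁..`: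
compare determinants: `δ = (det b)² det (δ₁ • J₁)` and `det (δ₁ • J₁) = δ₁³ det J₁ = δ₁³ δ₁ / (det b₁)²` is a square, so `δ = s²`, and rescaling the last basis vector by `s⁻¹`: `δ₁ • J₁ ≅ 1`.  Likewise `δ₂ • J₂ ≅ 1`.  So `b₂'ᵀ (δ₂ J₂) b₂' = 1 = b₁'ᵀ (δ₁ J₁) b₁'`; `b := b₂' b₁'⁻¹`, `c := δ₁ / δ₂`. -/
theorem similar_three [Fintype F] (h2 : (2 : F) ≠ 0) (J₁ J₂ : Matrix (Fin 3) (Fin 3) F) (hs1 : J₁ᵀ = J₁) (hs2 : J₂ᵀ = J₂)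
    (hd1 : J₁.det ≠ 0) (hd2 : J₂.det ≠ 0) :
    ∃ (b : GL (Fin 3) F) (c : F), c ≠ 0 ∧
      (b : Matrix (Fin 3) (Fin 3) F)ᵀ * J₂ * (b : Matrix (Fin 3) (Fin 3) F) = c • J₁ := by
  obtain ⟨b₁, d₁, hd₁, e1⟩ := sim3_norm h2 J₁ hs1 hd1
  obtain ⟨b₂, d₂, hd₂, e2⟩ := sim3_norm h2 J₂ hs2 hd2
  refine ⟨b₂ * b₁⁻¹, d₁ / d₂, div_ne_zero hd₁ hd₂, ?_⟩
  rw [Units.val_mul, Matrix.transpose_mul]
  have e2' : (b₂ : Matrix (Fin 3) (Fin 3) F)ᵀ * J₂ * (b₂ : Matrix (Fin 3) (Fin 3) F) = d₂⁻¹ • 1 := by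
    rw [← e2, Matrix.mul_smul, Matrix.smul_mul, smul_smul, inv_mul_cancel₀ hd₂, one_smul]
  have hi : (b₁ : Matrix (Fin 3) (Fin 3) F) * ((b₁⁻¹ : GL (Fin 3) F) : Matrix (Fin 3) (Fin 3) F) = 1 := by
    rw [← Units.val_mul, mul_inv_cancel, Units.val_one]
  have hi' : ((b₁⁻¹ : GL (Fin 3) F) : Matrix (Fin 3) (Fin 3) F)ᵀ * (b₁ : Matrix (Fin 3) (Fin 3) F)ᵀ = 1 := by
    rw [← Matrix.transpose_mul, hi, Matrix.transpose_one]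
  have e1' : d₁ • J₁ = ((b₁⁻¹ : GL (Fin 3) F) : Matrix (Fin 3) (Fin 3) F)ᵀ *
      ((b₁⁻¹ : GL (Fin 3) F) : Matrix (Fin 3) (Fin 3) F) := by
    calc d₁ • J₁ = (((b₁⁻¹ : GL (Fin 3) F) : Matrix (Fin 3) (Fin 3) F)ᵀ * (b₁ : Matrix (Fin 3) (Fin 3) F)ᵀ) * (d₁ • J₁) *
          ((b₁ : Matrix (Fin 3) (Fin 3) F) * ((b₁⁻¹ : GL (Fin 3) F) : Matrix (Fin 3) (Fin 3) F)) := by
            rw [hi, hi', one_mul, mul_one]
      _ = ((b₁⁻¹ : GL (Fin 3) F) : Matrix (Fin 3) (Fin 3) F)ᵀ * ((b₁ : Matrix (Fin 3) (Fin 3) F)ᵀ * (d₁ • J₁) *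
          (b₁ : Matrix (Fin 3) (Fin 3) F)) * ((b₁⁻¹ : GL (Fin 3) F) : Matrix (Fin 3) (Fin 3) F) := by
            simp only [mul_assoc]
      _ = _ := by rw [e1, mul_one]
  calc ((b₁⁻¹ : GL (Fin 3) F) : Matrix (Fin 3) (Fin 3) F)ᵀ * (b₂ : Matrix (Fin 3) (Fin 3) F)ᵀ * J₂ *
        ((b₂ : Matrix (Fin 3) (Fin 3) F) * ((b₁⁻¹ : GL (Fin 3) F) : Matrix (Fin 3) (Fin 3) F))
      = ((b₁⁻¹ : GL (Fin 3) F) : Matrix (Fin 3) (Fin 3) F)ᵀ * ((b₂ : Matrix (Fin 3) (Fin 3) F)ᵀ * J₂ *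
        (b₂ : Matrix (Fin 3) (Fin 3) F)) * ((b₁⁻¹ : GL (Fin 3) F) : Matrix (Fin 3) (Fin 3) F) := by
          simp only [mul_assoc]
    _ = d₂⁻¹ • (d₁ • J₁) := by
          rw [e2', e1', Matrix.mul_smul, Matrix.smul_mul, mul_one]
    _ = (d₁ / d₂) • J₁ := by
          rw [smul_smul, div_eq_mul_inv, mul_comm]

end Cfsg.Agent.Lib.Helper5.O9
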