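import Cfsg.Agent.Lib.Helper5.O9.Defs
import Cfsg.Agent.Lib.Lead.OG.SIMD

/-! Sub-ladder O9P (S5835), rung SIM3A. -/

set_option autoImplicit false

namespace Cfsg.Agent.Lib.Helper5.O9

open Cfsg Cfsg.Geo QuadraticMap
open Cfsg.Agent.Lib.Helper11.AschO (gram perp)
open Cfsg.Agent.Lib.Helper80.AS (tmat IsLeftFactor GramTensor)
open scoped MatrixGroups Matrix Kronecker

variable {ι : Type} [Fintype ι] [DecidableEq ι] {F : Type*} [Field F]

/-- SIM3A (from the general normal form `Lead.OG.simd_normal`). -/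
theorem diag_one_one [Fintype F] (h2 : (2 : F) ≠ 0) (J : Matrix (Fin 3) (Fin 3) F) (hs : Jᵀ = J) (hd : J.det ≠ 0) :
    ∃ (b : GL (Fin 3) F) (δ : F), δ ≠ 0 ∧
      (b : Matrix (Fin 3) (Fin 3) F)ᵀ * J * (b : Matrix (Fin 3) (Fin 3) F) = Matrix.diagonal ![1, 1, δ] := by
  obtain ⟨b, δ, hδ, hb⟩ := Cfsg.Agent.Lib.Lead.OG.simd_normal h2 (s := 2) J hs hd
  refine ⟨b, δ, hδ, ?_⟩
  rw [hb]
  congr 1
  funext i
  fin_cases i
  · rfl
  · rfl
  · simp [Function.update, Fin.last]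

end Cfsg.Agent.Lib.Helper5.O9
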