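import Cfsg.Agent.Lib.Helper5.O9.Defs
import Cfsg.Agent.Lib.Lead.OG.GF
import Cfsg.Agent.Lib.Lead.OG.G2P

/-! Sub-ladder O9P (S5835), rung TPF. -/

set_option autoImplicit false

namespace Cfsg.Agent.Lib.Helper5.O9

open Cfsg Cfsg.Geo QuadraticMap
open Cfsg.Agent.Lib.Helper11.AschO (gram perp)
open Cfsg.Agent.Lib.Helper80.AS (tmat IsLeftFactor GramTensor)
open scoped MatrixGroups Matrix Kronecker

variable {ι : Type} [Fintype ι] [DecidableEq ι] {F : Type*} [Field F]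

/-- TPF. -/
theorem tensorPower_of_gram (f : (ι → F) → (ι → F) → F) (e : ι ≃ Fin 3 × Fin 3) (P : GL ι F) (J : Matrix (Fin 3) (Fin 3) F)
    (hs : Jᵀ = J) (hd : J.det ≠ 0) (c : F) (hc : c ≠ 0) (hJ : GramTensor f e P J (c • J)) :
    ∃ f₁ : (Fin 3 → F) → (Fin 3 → F) → F, IsSymmetricForm f₁ ∧
      IsTensorPowerFormStructure id f f₁ (e.trans (finTwoArrowEquiv (Fin 3)).symm) P :=
  ⟨Cfsg.Agent.Lib.Lead.OG.gf J, Cfsg.Agent.Lib.Lead.OG.gf_isSymmetric J hs hd,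
    Cfsg.Agent.Lib.Lead.OG.power_struct_of_gram f e P J c hc hJ⟩

end Cfsg.Agent.Lib.Helper5.O9
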