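import Cfsg.Agent.Lib.Helper5.O9.Defs
import Cfsg.Agent.Lib.Helper38.AschG.TPW

/-! Sub-ladder O9P (S5835), rung TW1. -/

set_option autoImplicit false

namespace Cfsg.Agent.Lib.Helper5.O9

open Cfsg Cfsg.Geo QuadraticMap
open Cfsg.Agent.Lib.Helper11.AschO (gram perp)
open Cfsg.Agent.Lib.Helper80.AS (tmat IsLeftFactor GramTensor)
open scoped MatrixGroups Matrix Kronecker

variable {ι : Type} [Fintype ι] [DecidableEq ι] {F : Type*} [Field F]

/-- TW1.  COPY of Helper38/AschG/TPW.lean `tensor_le_wreath` with `Fin n` replaced by `ι`. -/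
theorem tensor_le_wreath {a : ℕ} (e : ι ≃ Fin a × Fin a) (P : GL ι F) :
    tensorProductSubgroup a a e P ≤ tensorWreathSubgroup a 2 (e.trans (finTwoArrowEquiv (Fin a)).symm) P := by
  intro g hg
  obtain ⟨g1, hg1, rfl⟩ := hg
  obtain ⟨k, hk, rfl⟩ := hg1
  obtain ⟨x, y, hxy⟩ := hk
  refine ⟨_, ⟨glReindex (finTwoArrowEquiv (Fin a)).symm k, ?_, rfl⟩, ?_⟩
  · apply Subgroup.subset_closure
    left
    refine ⟨![x, y], fun u v => ?_⟩
    rw [Fin.prod_univ_two]
    change (k : Matrix (Fin a × Fin a) (Fin a × Fin a) F) (finTwoArrowEquiv (Fin a) u)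
      (finTwoArrowEquiv (Fin a) v) = _
    rw [hxy]
    simp [Matrix.kroneckerMap_apply, finTwoArrowEquiv]
  · congr 1

end Cfsg.Agent.Lib.Helper5.O9
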