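import Cfsg.Agent.Lib.Helper5.O9.TW1
import Cfsg.Agent.Lib.Helper80.AS.TNORM
import Cfsg.Agent.Lib.Helper80.AS.TCOMM
import Cfsg.Agent.Lib.Helper80.AS.TMUL

/-! Sub-ladder O9P (S5835), rung TW2. -/

set_option autoImplicit false

namespace Cfsg.Agent.Lib.Helper5.O9

open Cfsg Cfsg.Geo QuadraticMap
open Cfsg.Agent.Lib.Helper11.AschO (gram perp)
open Cfsg.Agent.Lib.Helper80.AS
open scoped MatrixGroups Matrix Kronecker

variable {ι : Type} [Fintype ι] [DecidableEq ι] {F : Type*} [Field F]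

/-- the matrix swapping the two tensor factors. -/
def tw2S (a : ℕ) (F : Type*) [Field F] : Matrix (Fin a × Fin a) (Fin a × Fin a) F :=
  fun u v => if v = u.swap then 1 else 0

theorem tw2S_mul {a : ℕ} (M : Matrix (Fin a × Fin a) (Fin a × Fin a) F) (u v : Fin a × Fin a) :
    (tw2S a F * M) u v = M u.swap v := by
  simp [tw2S, Matrix.mul_apply]

theorem tw2_mul_S {a : ℕ} (M : Matrix (Fin a × Fin a) (Fin a × Fin a) F) (u v : Fin a × Fin a) :
    (M * tw2S a F) u v = M u v.swap := by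
  rw [Matrix.mul_apply, Finset.sum_eq_single v.swap]
  · simp [tw2S]
  · intro w _ hw
    have : ¬ v = w.swap := fun h => hw (by rw [h, Prod.swap_swap])
    simp [tw2S, this]
  · simp

theorem tw2S_sq {a : ℕ} : tw2S a F * tw2S a F = 1 := by
  ext u v
  rw [tw2S_mul, Matrix.one_apply]
  simp only [tw2S, Prod.swap_swap]
  exact if_congr eq_comm rfl rfl

theorem tw2_conj {a : ℕ} (y : Matrix (Fin a) (Fin a) F) :
    tw2S a F * ((1 : Matrix (Fin a) (Fin a) F) ⊗ₖ y) * tw2S a F = y ⊗ₖ (1 : Matrix (Fin a) (Fin a) F) := by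
  ext u v
  rw [tw2_mul_S, tw2S_mul, Matrix.kroneckerMap_apply, Matrix.kroneckerMap_apply]
  exact mul_comm _ _

/-- the swap as a unit. -/
def tw2U (a : ℕ) (F : Type*) [Field F] : GL (Fin a × Fin a) F :=
  ⟨tw2S a F, tw2S a F, tw2S_sq, tw2S_sq⟩

theorem tw2_mem {a : ℕ} (e : ι ≃ Fin a × Fin a) (P : GL ι F) :
    (MulAut.conj P).toMonoidHom ((glReindex e.symm).toMonoidHom (tw2U a F)) ∈
      tensorWreathSubgroup a 2 (e.trans (finTwoArrowEquiv (Fin a)).symm) P := by
  refine ⟨_, ⟨glReindex (finTwoArrowEquiv (Fin a)).symm (tw2U a F), ?_, rfl⟩, ?_⟩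
  · apply Subgroup.subset_closure
    right
    refine ⟨Equiv.swap 0 1, fun x y => ?_⟩
    change tw2S a F (finTwoArrowEquiv (Fin a) x) (finTwoArrowEquiv (Fin a) y) = _
    unfold tw2S
    refine if_congr ?_ rfl rfl
    constructor
    · intro h
      have h0 : y 0 = x 1 := congrArg Prod.fst h
      have h1 : y 1 = x 0 := congrArg Prod.snd h
      funext i
      fin_cases i
      · simpa using h0
      · simpa using h1
    · intro h
      subst h
      simp [finTwoArrowEquiv]
  · congr 1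

theorem tw2_val {a : ℕ} (e : ι ≃ Fin a × Fin a) (P : GL ι F) :
    (((MulAut.conj P).toMonoidHom ((glReindex e.symm).toMonoidHom (tw2U a F)) : GL ι F) : Matrix ι ι F) =
      tmat e P (tw2S a F) := rfl

/-- TW2. -/
theorem mem_wreath_of_swap [Nonempty ι] {a : ℕ} (B : Subalgebra F (Matrix ι ι F)) (e : ι ≃ Fin a × Fin a) (P : GL ι F)
    (hB : IsLeftFactor B e P) (g : GL ι F)
    (hg : ∀ x ∈ B, ∀ y ∈ B, ((g : Matrix ι ι F) * x * ((g⁻¹ : GL ι F) : Matrix ι ι F)) * y =
      y * ((g : Matrix ι ι F) * x * ((g⁻¹ : GL ι F) : Matrix ι ι F))) :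
    g ∈ tensorWreathSubgroup a 2 (e.trans (finTwoArrowEquiv (Fin a)).symm) P := by
  set S : GL ι F := (MulAut.conj P).toMonoidHom ((glReindex e.symm).toMonoidHom (tw2U a F)) with hS
  have hSmem : S ∈ tensorWreathSubgroup a 2 (e.trans (finTwoArrowEquiv (Fin a)).symm) P := tw2_mem e P
  have hSv : (S : Matrix ι ι F) = tmat e P (tw2S a F) := tw2_val e P
  have hSS : S * S = 1 := by
    apply Units.ext
    rw [Units.val_mul, hSv, ← tmat_mul, tw2S_sq, tmat_one, Units.val_one]
  have hSi : S⁻¹ = S := inv_eq_of_mul_eq_one_left hSS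
  -- forward direction
  have hfw : ∀ k ∈ B, ((S * g : GL ι F) : Matrix ι ι F) * k * (((S * g)⁻¹ : GL ι F) : Matrix ι ι F) ∈ B := by
    intro k hk
    obtain ⟨y, hy⟩ := comm_leftFactor e P ((g : Matrix ι ι F) * k * ((g⁻¹ : GL ι F) : Matrix ι ι F))
      (fun x => hg k hk _ ((hB _).mpr ⟨x, rfl⟩))
    rw [hB]
    refine ⟨y, ?_⟩
    rw [mul_inv_rev, hSi, Units.val_mul, Units.val_mul, hSv, ← tw2_conj, tmat_mul, tmat_mul, ← hy]
    simp only [mul_assoc]
  have hinj : ∀ x y : Matrix ι ι F,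
      ((S * g : GL ι F) : Matrix ι ι F) * x * (((S * g)⁻¹ : GL ι F) : Matrix ι ι F) =
      ((S * g : GL ι F) : Matrix ι ι F) * y * (((S * g)⁻¹ : GL ι F) : Matrix ι ι F) → x = y := by
    intro x y h
    have h2 : ∀ Z : Matrix ι ι F, (((S * g)⁻¹ : GL ι F) : Matrix ι ι F) *
        (((S * g : GL ι F) : Matrix ι ι F) * Z * (((S * g)⁻¹ : GL ι F) : Matrix ι ι F)) *
        ((S * g : GL ι F) : Matrix ι ι F) = Z := by
      intro Z
      calc _ = ((((S * g)⁻¹ : GL ι F) : Matrix ι ι F) * ((S * g : GL ι F) : Matrix ι ι F)) * Z *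
          ((((S * g)⁻¹ : GL ι F) : Matrix ι ι F) * ((S * g : GL ι F) : Matrix ι ι F)) := by
            simp only [mul_assoc]
        _ = Z := by rw [tmul_inv_mul, one_mul, mul_one]
    rw [← h2 x, h, h2]
  let φ : B →ₗ[F] B :=
    { toFun := fun k => ⟨((S * g : GL ι F) : Matrix ι ι F) * k.1 * (((S * g)⁻¹ : GL ι F) : Matrix ι ι F),
        hfw k.1 k.2⟩
      map_add' := by
        intro x y
        apply Subtype.ext
        simp [mul_add, add_mul]
      map_smul' := by
        intro c x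
        apply Subtype.ext
        simp }
  have hφi : Function.Injective φ := by
    intro x y h
    apply Subtype.ext
    exact hinj _ _ (congrArg Subtype.val h)
  have hφs : Function.Surjective φ := LinearMap.injective_iff_surjective.mp hφi
  have hnorm : S * g ∈ subalgebraNormalizer B := by
    intro k
    constructor
    · exact hfw k
    · intro h
      obtain ⟨k', hk'⟩ := hφs ⟨_, h⟩
      have := hinj _ _ (congrArg Subtype.val hk')
      rw [← this]
      exact k'.2
  have h1 : S * g ∈ tensorWreathSubgroup a 2 (e.trans (finTwoArrowEquiv (Fin a)).symm) P :=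
    tensor_le_wreath e P (norm_le_tensor B e P hB hnorm)
  have h2 : g = S⁻¹ * (S * g) := by group
  rw [h2]
  exact Subgroup.mul_mem _ (Subgroup.inv_mem _ hSmem) h1

end Cfsg.Agent.Lib.Helper5.O9
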