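import Cfsg.Agent.Lib.Helper5.O9.WNF
import Cfsg.Agent.Lib.Helper5.O9.KSIM
import Cfsg.Agent.Lib.Helper5.O9.FRI
import Cfsg.Agent.Lib.Helper5.O9.PWF
import Cfsg.Agent.Lib.Helper5.O9.ORTHD
import Cfsg.Agent.Lib.Helper5.O9.LINES
import Cfsg.Agent.Lib.Helper5.O9.LI
import Cfsg.Agent.Lib.Helper5.O9.PWP

/-! Sub-ladder O9P (S5835), rung W3. -/

set_option autoImplicit false

namespace Cfsg.Agent.Lib.Helper5.O9

open Cfsg Cfsg.Geo QuadraticMap
open Cfsg.Agent.Lib.Helper11.AschO (gram perp)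
open Cfsg.Agent.Lib.Helper80.AS (tmat IsLeftFactor GramTensor)
open scoped MatrixGroups Matrix Kronecker

variable {ι : Type} [Fintype ι] [DecidableEq ι] {F : Type*} [Field F]

theorem w3_pv_smul (c₁ c₂ : F) (a b : Fin 3 → F) : pv (c₁ • a) (c₂ • b) = (c₁ * c₂) • pv a b := by
  funext x
  simp only [pv, Pi.smul_apply, smul_eq_mul]
  ring

theorem w3_P_smul (e : ι ≃ (Fin 2 → Fin 3)) (P : GL ι F) (c : F) (x : (Fin 2 → Fin 3) → F) :
    (P : Matrix ι ι F) *ᵥ ((c • x) ∘ e) = c • ((P : Matrix ι ι F) *ᵥ (x ∘ e)) := by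
  rw [← Matrix.mulVec_smul]
  rfl

/-- W3. -/
theorem wreath_three [Fintype F] (hq : Fintype.card F = 3) (Q : QuadraticForm F (ι → F)) (e : ι ≃ (Fin 2 → Fin 3)) (P : GL ι F)
    (f₁ : (Fin 3 → F) → (Fin 3 → F) → F) (hf₁ : IsSymmetricForm f₁)
    (hs : IsTensorPowerFormStructure id (polar Q) f₁ e P) (H : Subgroup (GL ι F))
    (hfix : FixesQuadForm (matrixSet H) Q) (hH : H ≤ tensorWreathSubgroup 3 2 e P) :
    ∃ D' : Fin 9 → Submodule F (ι → F), IsOrthogonalMDecomposition Q 1 D' ∧ H ≤ decompositionStabilizer D' := by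
  classical
  obtain ⟨c, hc0, hc⟩ := hs
  have h3F : (3 : F) = 0 := by
    have h := Nat.cast_card_eq_zero F
    rw [hq] at h
    exact_mod_cast h
  have h2 : (2 : F) ≠ 0 := by
    intro h
    have h1 : (1 : F) = 0 := by linear_combination h3F - h
    exact one_ne_zero h1
  obtain ⟨ε, y, hε, hy, -, hfr⟩ := frame_sim hq f₁ hf₁
  have hpf : ∀ a b a' b' : Fin 3 → F,
      polar Q ((P : Matrix ι ι F) *ᵥ (pv a b ∘ e)) ((P : Matrix ι ι F) *ᵥ (pv a' b' ∘ e)) =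
        c * (f₁ a a' * f₁ b b') :=
    fun a b a' b' => form_pure (polar Q) f₁ hf₁.bilinear e P c hc a b a' b'
  obtain ⟨E⟩ : Nonempty (Fin 9 ≃ Fin 3 × Fin 3) :=
    ⟨Fintype.equivOfCardEq (by simp)⟩
  obtain ⟨Y, hY⟩ : ∃ Y : Fin 9 → ι → F, ∀ j, Y j =
      (P : Matrix ι ι F) *ᵥ (pv (y (E j).1) (y (E j).2) ∘ e) := ⟨_, fun _ => rfl⟩
  have hpol : ∀ j j', polar Q (Y j) (Y j') =
      c * ((if (E j).1 = (E j').1 then ε else 0) * (if (E j).2 = (E j').2 then ε else 0)) := by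
    intro j j'
    rw [hY, hY, hpf, hy, hy]
  have horth : ∀ j l, j ≠ l → polar Q (Y j) (Y l) = 0 := by
    intro j l hjl
    rw [hpol]
    by_cases h1 : (E j).1 = (E l).1
    · have h4 : (E j).2 ≠ (E l).2 := fun h4 => hjl (E.injective (Prod.ext h1 h4))
      rw [if_neg h4, mul_zero, mul_zero]
    · rw [if_neg h1, zero_mul, mul_zero]
  have hQY : ∀ j, Q (Y j) = c * (ε * ε) / 2 := by
    intro j
    have h1 := hpol j j
    rw [if_pos rfl, if_pos rfl, QuadraticMap.polar_self] at h1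
    rw [← h1]
    field_simp
    rw [two_nsmul, mul_two]
  have hε' : c * (ε * ε) / 2 ≠ 0 := div_ne_zero (mul_ne_zero hc0 (mul_ne_zero hε hε)) h2
  have hLI : LinearIndependent F Y := linearIndependent_of_orth h2 Q _ hε' Y hQY horth
  have hcard : Fintype.card ι = 9 := by
    rw [Fintype.card_congr e]
    simp
  have hspan : Submodule.span F (Set.range Y) = ⊤ := by
    apply hLI.span_eq_top_of_card_eq_finrank
    rw [Module.finrank_fintype_fun_eq_card, hcard]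
    simp
  refine ⟨fun j => Submodule.span F {Y j},
    orthDecomp_of_frame h2 Q (by norm_num) _ hε' Y hQY horth hspan, ?_⟩
  intro g hg
  apply mem_stab_of_lines Y hLI g
  have hgpol : ∀ u v : ι → F, polar Q ((g : Matrix ι ι F) *ᵥ u) ((g : Matrix ι ι F) *ᵥ v) = polar Q u v := by
    intro u v
    have hg' : (g : Matrix ι ι F) ∈ matrixSet H := ⟨g, hg, rfl⟩
    simp only [QuadraticMap.polar]
    rw [← Matrix.mulVec_add, hfix _ hg', hfix _ hg', hfix _ hg']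
  obtain ⟨g₀, hg₀, rfl⟩ := (pwp_mem_iff e P g).1 (hH hg)
  obtain ⟨α, β, hcase⟩ := wreath_normal_form g₀ hg₀
  have hsim : ∀ a b a' b' : Fin 3 → F,
      f₁ ((α : Matrix (Fin 3) (Fin 3) F) *ᵥ a) ((α : Matrix (Fin 3) (Fin 3) F) *ᵥ a') *
        f₁ ((β : Matrix (Fin 3) (Fin 3) F) *ᵥ b) ((β : Matrix (Fin 3) (Fin 3) F) *ᵥ b') =
      f₁ a a' * f₁ b b' := by
    intro a b a' b'
    have h1 := hgpol ((P : Matrix ι ι F) *ᵥ (pv a b ∘ e)) ((P : Matrix ι ι F) *ᵥ (pv a' b' ∘ e))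
    rw [pwp_conj_mulVec, pwp_conj_mulVec] at h1
    rcases hcase with hcase | hcase
    · rw [hcase, hcase, hpf, hpf] at h1
      exact mul_left_cancel₀ hc0 h1
    · rw [hcase, hcase, hpf, hpf] at h1
      rw [mul_comm]
      exact mul_left_cancel₀ hc0 h1
  obtain ⟨μ, hμ, hα, hβ⟩ := sim_of_tensor f₁ hf₁ (fun a => (α : Matrix (Fin 3) (Fin 3) F) *ᵥ a)
    (fun b => (β : Matrix (Fin 3) (Fin 3) F) *ᵥ b) hsim
  intro j
  obtain ⟨k', c₁, h1⟩ := hfr α μ hμ hα (E j).1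
  obtain ⟨l', c₂, h4⟩ := hfr β μ⁻¹ (inv_ne_zero hμ) hβ (E j).2
  rcases hcase with hcase | hcase
  · refine ⟨E.symm (k', l'), c₁ * c₂, ?_⟩
    rw [hY, hY, pwp_conj_mulVec, hcase, h1, h4, w3_pv_smul, w3_P_smul, Equiv.apply_symm_apply]
  · refine ⟨E.symm (l', k'), c₂ * c₁, ?_⟩
    rw [hY, hY, pwp_conj_mulVec, hcase, h1, h4, w3_pv_smul, w3_P_smul, Equiv.apply_symm_apply]

end Cfsg.Agent.Lib.Helper5.O9
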