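import Cfsg.Agent.Lib.Helper5.O9.Defs
import Cfsg.Agent.Lib.Helper59.Asch9.PR8

/-! Sub-ladder O9P (S5835), rung WNF. -/

set_option autoImplicit false

namespace Cfsg.Agent.Lib.Helper5.O9

open Cfsg Cfsg.Geo QuadraticMap
open Cfsg.Agent.Lib.Helper11.AschO (gram perp)
open Cfsg.Agent.Lib.Helper80.AS (tmat IsLeftFactor GramTensor)
open Cfsg.Agent.Lib.Helper59.Asch9 (pr8_pure_mulVec pr8_perm_mulVec pr8_inv_mulVec)
open scoped MatrixGroups Matrix Kronecker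

variable {ι : Type} [Fintype ι] [DecidableEq ι] {F : Type*} [Field F]

/-- the normal form property. -/
def WnfP (g : GL (Fin 2 → Fin 3) F) : Prop :=
  ∃ α β : GL (Fin 3) F,
      (∀ a b : Fin 3 → F, (g : Matrix (Fin 2 → Fin 3) (Fin 2 → Fin 3) F) *ᵥ pv a b =
        pv ((α : Matrix (Fin 3) (Fin 3) F) *ᵥ a) ((β : Matrix (Fin 3) (Fin 3) F) *ᵥ b)) ∨
      (∀ a b : Fin 3 → F, (g : Matrix (Fin 2 → Fin 3) (Fin 2 → Fin 3) F) *ᵥ pv a b =
        pv ((β : Matrix (Fin 3) (Fin 3) F) *ᵥ b) ((α : Matrix (Fin 3) (Fin 3) F) *ᵥ a))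

theorem wnf_cancel (α : GL (Fin 3) F) (a : Fin 3 → F) :
    (α : Matrix (Fin 3) (Fin 3) F) *ᵥ (((α⁻¹ : GL (Fin 3) F) : Matrix (Fin 3) (Fin 3) F) *ᵥ a) = a := by
  rw [Matrix.mulVec_mulVec, ← Units.val_mul, mul_inv_cancel, Units.val_one, Matrix.one_mulVec]

theorem wnf_gen (g : GL (Fin 2 → Fin 3) F) (hg : IsPureTensor 3 2 g ∨ IsFactorPermutation 3 2 g) :
    WnfP g := by
  rcases hg with ⟨gs, hgs⟩ | ⟨σ, hσ⟩
  · refine ⟨gs 0, gs 1, Or.inl fun a b => ?_⟩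
    funext x
    rw [pr8_pure_mulVec _ (fun i => (gs i : Matrix (Fin 3) (Fin 3) F)) hgs ![a, b] (pv a b)
      (fun x => by rw [Fin.prod_univ_two]; rfl), Fin.prod_univ_two]
    rfl
  · have h01 : (σ 0 = 0 ∧ σ 1 = 1) ∨ (σ 0 = 1 ∧ σ 1 = 0) := by
      have hne : σ 0 ≠ σ 1 := fun h => by
        have := σ.injective h
        exact absurd this (by decide)
      generalize σ 0 = p at hne
      generalize σ 1 = r at hne
      revert p r
      decide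
    rcases h01 with ⟨h0, h1⟩ | ⟨h0, h1⟩
    · refine ⟨1, 1, Or.inl fun a b => ?_⟩
      funext x
      rw [pr8_perm_mulVec _ σ hσ, Units.val_one, Matrix.one_mulVec, Matrix.one_mulVec]
      simp only [pv, Function.comp, h0, h1]
    · refine ⟨1, 1, Or.inr fun a b => ?_⟩
      funext x
      rw [pr8_perm_mulVec _ σ hσ, Units.val_one, Matrix.one_mulVec, Matrix.one_mulVec]
      simp only [pv, Function.comp, h0, h1]
      exact mul_comm _ _

theorem wnf_mul (g h : GL (Fin 2 → Fin 3) F) (hg : WnfP g) (hh : WnfP h) : WnfP (g * h) := by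
  obtain ⟨α₁, β₁, h1⟩ := hg
  obtain ⟨α₂, β₂, h2⟩ := hh
  rcases h1 with h1 | h1 <;> rcases h2 with h2 | h2
  · refine ⟨α₁ * α₂, β₁ * β₂, Or.inl fun a b => ?_⟩
    rw [Units.val_mul, ← Matrix.mulVec_mulVec, h2, h1, Units.val_mul, Units.val_mul,
      Matrix.mulVec_mulVec, Matrix.mulVec_mulVec]
  · refine ⟨β₁ * α₂, α₁ * β₂, Or.inr fun a b => ?_⟩
    rw [Units.val_mul, ← Matrix.mulVec_mulVec, h2, h1, Units.val_mul, Units.val_mul,
      Matrix.mulVec_mulVec, Matrix.mulVec_mulVec]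
  · refine ⟨α₁ * α₂, β₁ * β₂, Or.inr fun a b => ?_⟩
    rw [Units.val_mul, ← Matrix.mulVec_mulVec, h2, h1, Units.val_mul, Units.val_mul,
      Matrix.mulVec_mulVec, Matrix.mulVec_mulVec]
  · refine ⟨β₁ * α₂, α₁ * β₂, Or.inl fun a b => ?_⟩
    rw [Units.val_mul, ← Matrix.mulVec_mulVec, h2, h1, Units.val_mul, Units.val_mul,
      Matrix.mulVec_mulVec, Matrix.mulVec_mulVec]

theorem wnf_inv (g : GL (Fin 2 → Fin 3) F) (hg : WnfP g) : WnfP g⁻¹ := by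
  obtain ⟨α, β, h1⟩ := hg
  rcases h1 with h1 | h1
  · refine ⟨α⁻¹, β⁻¹, Or.inl fun a b => ?_⟩
    apply pr8_inv_mulVec
    rw [h1, wnf_cancel, wnf_cancel]
  · refine ⟨β⁻¹, α⁻¹, Or.inr fun a b => ?_⟩
    apply pr8_inv_mulVec
    rw [h1, wnf_cancel, wnf_cancel]

/-- WNF. -/
theorem wreath_normal_form (g : GL (Fin 2 → Fin 3) F) (hg : g ∈ tensorWreathStandard 3 2 F) :
    ∃ α β : GL (Fin 3) F,
      (∀ a b : Fin 3 → F, (g : Matrix (Fin 2 → Fin 3) (Fin 2 → Fin 3) F) *ᵥ pv a b =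
        pv ((α : Matrix (Fin 3) (Fin 3) F) *ᵥ a) ((β : Matrix (Fin 3) (Fin 3) F) *ᵥ b)) ∨
      (∀ a b : Fin 3 → F, (g : Matrix (Fin 2 → Fin 3) (Fin 2 → Fin 3) F) *ᵥ pv a b =
        pv ((β : Matrix (Fin 3) (Fin 3) F) *ᵥ b) ((α : Matrix (Fin 3) (Fin 3) F) *ᵥ a)) := by
  change WnfP g
  unfold tensorWreathStandard at hg
  induction hg using Subgroup.closure_induction with
  | mem x hx => exact wnf_gen x hx
  | one => exact ⟨1, 1, Or.inl fun a b => by simp⟩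
  | mul x y _ _ hx hy => exact wnf_mul x y hx hy
  | inv x _ hx => exact wnf_inv x hx

end Cfsg.Agent.Lib.Helper5.O9
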